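import Groth.Agent.L12.Kvb.Rank
import Groth.Agent.L12.ExtSh.Pullback
import Groth.Agent.L12.ExtSh.TensorLine
import Groth.Agent.L18.Grass.MapEpi
import Groth.Agent.L22.ExtSh.GenRank
import Groth.Agent.L29.DCoh.PullTensor
import Groth.Agent.L22.Lambda
import Groth.Agent.L17.BC.Efface
import Groth.Agent.L29.K.Sub
import Groth.Agent.L18.LocFreeTilde
import Groth.Agent.L20.DescLocus.Main

/-!
# Pullback of classes of bundles is a map of λ-rings
-/

set_option autoImplicit false
set_option linter.style.haveILetI false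
set_option linter.unusedSectionVars false
set_option backward.isDefEq.respectTransparency false
set_option backward.isDefEq.respectTransparency.types false

universe v u

open CategoryTheory CategoryTheory.Limits AlgebraicGeometry LambdaRing

attribute [local instance] HasDerivedCategory.standard

noncomputable section

namespace Groth.L12.KRR

variable {X Y : Scheme.{u}} {KX : Type v} [CommRing KX] [LambdaOps KX] {PX : PosStructure KX}
  {φX : SGA6.Kvb X →+ KX} (hKX : _root_.KRR.IsModel X KX PX φX)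
  {KY : Type v} [CommRing KY] [LambdaOps KY] {PY : PosStructure KY} {φY : SGA6.Kvb Y →+ KY}
  (hKY : _root_.KRR.IsModel Y KY PY φY) {f : X ⟶ Y} {q : KY →+ KX}
  (hq : _root_.KRR.IsPull f φY φX q)

include hKY in
/-- Every element is a difference of classes of bundles. -/
theorem exists_sub_cl (y : KY) : ∃ E F : Y.Modules, FlatMod.IsFinLocFree E ∧ FlatMod.IsFinLocFree F ∧
    y = φY (_root_.KRR.cl Y E) - φY (_root_.KRR.cl Y F) := by
  obtain ⟨e, f, he, hf, rfl⟩ := PY.exists_sub y
  obtain ⟨_, E, -, hE, rfl⟩ := (hKY.mem_pos_iff e).1 he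
  obtain ⟨_, F, -, hF, rfl⟩ := (hKY.mem_pos_iff f).1 hf
  exact ⟨E, F, Groth.L18.KRRAmple.isFinLocFree_of_rank hE, Groth.L18.KRRAmple.isFinLocFree_of_rank hF, rfl⟩

include hKX hKY hq in
theorem pull_one : q 1 = 1 := by
  rw [← hKY.map_one, hq _ Groth.L12.Kvb.isFinLocFree_O,
    Groth.L12.Kvb.cl_iso (Groth.L29.LocFree.pullbackUnitIso f) (Groth.L29.LocFree.pullback f Groth.L12.Kvb.isFinLocFree_O)]
  exact hKX.map_one

include hKX hKY hq in
theorem pull_mul (a b : KY) : q (a * b) = q a * q b := by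
  have key : ∀ E F : Y.Modules, FlatMod.IsFinLocFree E → FlatMod.IsFinLocFree F →
      q (φY (_root_.KRR.cl Y E) * φY (_root_.KRR.cl Y F)) = q (φY (_root_.KRR.cl Y E)) * q (φY (_root_.KRR.cl Y F)) :=
    fun E F hE hF => by
      have hE' := Groth.L29.LocFree.pullback f hE
      have hF' := Groth.L29.LocFree.pullback f hF
      have hEF := Groth.L29.DC.isFinLocFree_tensor hE hF
      rw [hKY.map_mul E F hE hF, hq E hE, hq F hF, hKX.map_mul _ _ hE' hF']
      refine (hq _ hEF).trans (congrArg φX ?_)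
      exact Groth.L12.Kvb.cl_iso (Groth.L29.DC.PullTensor.pullTensor f E F).symm
        (Groth.L29.LocFree.pullback f hEF) |>.trans rfl
  obtain ⟨E, F, hE, hF, rfl⟩ := exists_sub_cl hKY a
  obtain ⟨E', F', hE', hF', rfl⟩ := exists_sub_cl hKY b
  simp only [sub_mul, mul_sub, map_sub, key _ _ hE hE', key _ _ hE hF', key _ _ hF hE', key _ _ hF hF']

include hKX hKY hq in
/-- The pullback as a ring homomorphism. -/
theorem exists_pullHom : ∃ Q : KY →+* KX, ∀ y, Q y = q y :=
  ⟨{ q with map_one' := pull_one hKX hKY hq, map_mul' := pull_mul hKX hKY hq }, fun _ => rfl⟩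

include hKX hKY hq in
theorem aug_pull (y : KY) : PX.aug (q y) = PY.aug y := by
  have key : ∀ (n : ℕ) (E : Y.Modules), FlatMod.IsFinLocFreeOfRank n E →
      PX.aug (q (φY (_root_.KRR.cl Y E))) = PY.aug (φY (_root_.KRR.cl Y E)) := fun n E hE => by
    rw [hq E (Groth.L18.KRRAmple.isFinLocFree_of_rank hE), hKY.aug_cl n E hE,
      hKX.aug_cl n _ (Groth.L18.MapEpi.isFinLocFreeOfRank_pullback f hE)]
  obtain ⟨e, g, he, hg, rfl⟩ := PY.exists_sub y
  obtain ⟨n, E, -, hE, rfl⟩ := (hKY.mem_pos_iff e).1 he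
  obtain ⟨m, F, -, hF, rfl⟩ := (hKY.mem_pos_iff g).1 hg
  rw [map_sub, map_sub, map_sub, key n E hE, key m F hF]

theorem lam_sub_induction {A : Type v} [CommRing A] [LambdaOps A] {B : Type v} [CommRing B] [LambdaOps B]
    (Φ : ℕ → A → B) (hΦ0 : ∀ x, Φ 0 x = 1)
    (hadd : ∀ (k : ℕ) (x y : A), Φ k (x + y) = ∑ i ∈ Finset.range (k + 1), Φ i x * Φ (k - i) y)
    (Ψ : ℕ → A → B) (hΨ0 : ∀ x, Ψ 0 x = 1)
    (hadd' : ∀ (k : ℕ) (x y : A), Ψ k (x + y) = ∑ i ∈ Finset.range (k + 1), Ψ i x * Ψ (k - i) y)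
    {e g : A} (he : ∀ i, Φ i e = Ψ i e) (hg : ∀ i, Φ i g = Ψ i g) (k : ℕ) : Φ k (e - g) = Ψ k (e - g) := by
  induction k using Nat.strong_induction_on with
  | _ k ih =>
    have h := hadd k (e - g) g
    have h' := hadd' k (e - g) g
    rw [sub_add_cancel, Finset.sum_range_succ, Nat.sub_self] at h h'
    rw [hΦ0, mul_one] at h
    rw [hΨ0, mul_one] at h'
    rw [he k, h', Finset.sum_congr rfl fun i hi => by rw [← ih i (Finset.mem_range.1 hi), ← hg (k - i)]] at h
    exact (add_left_cancel h).symm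

include hKX hKY hq in
theorem pull_lam (i : ℕ) (y : KY) : q (LambdaOps.lam i y) = LambdaOps.lam i (q y) := by
  have key : ∀ (E : Y.Modules), FlatMod.IsFinLocFree E → ∀ j,
      q (LambdaOps.lam j (φY (_root_.KRR.cl Y E))) = LambdaOps.lam j (q (φY (_root_.KRR.cl Y E))) := fun E hE j => by
    have hE' := Groth.L29.LocFree.pullback f hE
    haveI := Groth.L29.DC.PCQCoh.isQCoh_of_isFinLocFree hE
    haveI := Groth.L29.DC.PCQCoh.isQCoh_of_isFinLocFree hE'
    have hL := Groth.L12.ExtSh.isExtPow_wedgeMod E j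
    have hL' := Groth.L12.ExtSh.isExtPow_wedgeMod ((Scheme.Modules.pullback f).obj E) j
    have hLf := Groth.L12.ExtSh.isFinLocFree_wedgeMod hE j
    have hLf' := Groth.L12.ExtSh.isFinLocFree_wedgeMod hE' j
    obtain ⟨e⟩ := Groth.L12.ExtSh.nonempty_pullback_extPow_iso f hE hL hL'
    rw [hKY.map_lam j E _ hE hLf hL, hq E hE, hKX.map_lam j _ _ hE' hLf' hL', hq _ hLf,
      Groth.L12.Kvb.cl_iso e (Groth.L29.LocFree.pullback f hLf)]
  obtain ⟨E, F, hE, hF, rfl⟩ := exists_sub_cl hKY y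
  obtain ⟨Q, hQ⟩ := exists_pullHom hKX hKY hq
  refine lam_sub_induction (fun j x => q (LambdaOps.lam j x))
    (fun x => by rw [LambdaOps.lam_zero]; exact pull_one hKX hKY hq)
    (fun k x x' => by simp only [LambdaOps.lam_add, map_sum, pull_mul hKX hKY hq])
    (fun j x => LambdaOps.lam j (q x)) (fun x => LambdaOps.lam_zero _)
    (fun k x x' => by simp only [map_add, LambdaOps.lam_add]) (key E hE) (key F hF) i

include hKX hKY hq in
theorem pull_gamma (i : ℕ) (y : KY) : q (gamma i y) = gamma i (q y) := by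
  unfold gamma
  split_ifs
  · exact pull_one hKX hKY hq
  · obtain ⟨Q, hQ⟩ := exists_pullHom hKX hKY hq
    rw [map_sum]
    refine Finset.sum_congr rfl fun j _ => ?_
    split_ifs
    · simp
    · rw [← hQ, map_mul, map_natCast, hQ, pull_lam hKX hKY hq]

include hKX in
theorem cl_tensorPow {L : X.Modules} (hL : PicF.IsInvertible L) : ∀ k : ℕ,
    PicF.IsInvertible (CohB1.tensorPow L k) ∧
      φX (_root_.KRR.cl X (CohB1.tensorPow L k)) = φX (_root_.KRR.cl X L) ^ k
  | 0 => ⟨Groth.L18.Ample.isInvertible_structureModule X, by rw [pow_zero]; exact hKX.map_one⟩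
  | k + 1 => by
    obtain ⟨hk, e⟩ := cl_tensorPow hL k
    refine ⟨Groth.L18.GenLoc.isInvertible_tensor hk hL, ?_⟩
    rw [pow_succ, ← e, hKX.map_mul _ _ (Groth.L16.Existence.isFinLocFree_of_isInvertible hk)
      (Groth.L16.Existence.isFinLocFree_of_isInvertible hL)]
    rfl

include hKX in
/-- `λ^i(u x) = u^i λ^i(x)` for a line element `u`. -/
theorem lam_line_mul {u : KX} (hu : PX.IsLine u) (i : ℕ) (x : KX) :
    LambdaOps.lam i (u * x) = u ^ i * LambdaOps.lam i x := by
  obtain ⟨n, L, -, hL, rfl⟩ := (hKX.mem_pos_iff u).1 hu.1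
  obtain rfl : n = 1 := by
    have h := hKX.aug_cl n L hL
    rw [hu.2] at h
    exact_mod_cast h.symm
  have hLi := Groth.L22.GenRank.isInvertible_of_rank_one hL
  have hLf := Groth.L18.KRRAmple.isFinLocFree_of_rank hL
  set u := φX (_root_.KRR.cl X L)
  have key : ∀ (E : X.Modules), FlatMod.IsFinLocFree E → ∀ j,
      LambdaOps.lam j (u * φX (_root_.KRR.cl X E)) = u ^ j * LambdaOps.lam j (φX (_root_.KRR.cl X E)) :=
    fun E hE j => by
      have hEL := Groth.L29.DC.isFinLocFree_tensor hE hLf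
      haveI := Groth.L29.DC.PCQCoh.isQCoh_of_isFinLocFree hE
      haveI := Groth.L29.DC.PCQCoh.isQCoh_of_isFinLocFree hEL
      have hN := Groth.L12.ExtSh.isExtPow_wedgeMod E j
      have hM := Groth.L12.ExtSh.isExtPow_wedgeMod (CohB1.tensorMod E L) j
      have hNf := Groth.L12.ExtSh.isFinLocFree_wedgeMod hE j
      have hMf := Groth.L12.ExtSh.isFinLocFree_wedgeMod hEL j
      obtain ⟨e⟩ := Groth.L12.ExtSh.nonempty_extPow_tensor_iso hLi hM hN
      obtain ⟨hp, hpc⟩ := cl_tensorPow hKX hLi j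
      rw [mul_comm, hKX.map_mul E L hE hLf, hKX.map_lam j E _ hE hNf hN]
      refine (hKX.map_lam j _ _ hEL hMf hM).trans ?_
      rw [Groth.L12.Kvb.cl_iso e hMf, ← hpc, mul_comm, hKX.map_mul _ _ hNf (Groth.L16.Existence.isFinLocFree_of_isInvertible hp)]
      rfl
  obtain ⟨E, F, hE, hF, rfl⟩ := exists_sub_cl hKX x
  refine lam_sub_induction (fun j x => LambdaOps.lam j (u * x)) (fun x => LambdaOps.lam_zero _)
    (fun k x x' => by simp only [mul_add, LambdaOps.lam_add])
    (fun j x => u ^ j * LambdaOps.lam j x) (fun x => by rw [pow_zero, one_mul, LambdaOps.lam_zero])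
    (fun k x x' => ?_) (key E hE) (key F hF) i
  simp only [LambdaOps.lam_add, Finset.mul_sum]
  refine Finset.sum_congr rfl fun j hj => ?_
  have := Finset.mem_range.1 hj
  conv_lhs => rw [show k = j + (k - j) by omega, pow_add]
  rw [Nat.add_sub_cancel_left]
  ring

/-- The pullback exists on any models. -/
theorem exists_isPull (f : X ⟶ Y) {φX : SGA6.Kvb X →+ KX} {φY : SGA6.Kvb Y →+ KY}
    (hφY : Function.Bijective φY) : ∃ g : KY →+ KX, _root_.KRR.IsPull f φY φX g := by
  let f' : Y.Modules → KX := fun E => φX (_root_.KRR.cl X ((Scheme.Modules.pullback f).obj E))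
  have hadd : ∀ S : ShortComplex Y.Modules, S.ShortExact → FlatMod.IsFinLocFree S.X₁ → FlatMod.IsFinLocFree S.X₂ →
      FlatMod.IsFinLocFree S.X₃ → f' S.X₂ = f' S.X₁ + f' S.X₃ := by
    intro S hS h1 h2 h3
    have hsplit : Groth.L17.BC.Efface.StalkSplit S.f := fun x => by
      have hSx := hS.map_of_exact (Groth.L00.Stk.F Y x)
      haveI : Module.Free (Y.presheaf.stalk x) ((S.map (Groth.L00.Stk.F Y x)).X₃) :=
        Groth.L18.LFP.free_stalk S.X₃ h3 x
      haveI : Module.Projective (Y.presheaf.stalk x) ((S.map (Groth.L00.Stk.F Y x)).X₃) := Module.Projective.of_free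
      haveI : Projective ((S.map (Groth.L00.Stk.F Y x)).X₃) := (IsProjective.iff_projective _).1 ‹_›
      exact hSx.splittingOfProjective.isSplitMono_f
    have := congrArg φX (Groth.L29.KSub.clSub_shortExact (_root_.KRR.vbP X)
      (Groth.L17.BC.Efface.shortExact_pullback hS hsplit f)
      (Groth.L29.LocFree.pullback f h1) (Groth.L29.LocFree.pullback f h2) (Groth.L29.LocFree.pullback f h3))
    rw [map_add] at this
    exact this
  let e := AddEquiv.ofBijective φY hφY
  refine ⟨(Groth.L29.KSub.lift (P := _root_.KRR.vbP Y) f' hadd).comp e.symm.toAddMonoidHom, fun E hE => ?_⟩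
  show Groth.L29.KSub.lift f' hadd (e.symm (e (_root_.KRR.cl Y E))) = _
  rw [e.symm_apply_apply]
  exact Groth.L29.KSub.lift_clSub f' hadd hE

end Groth.L12.KRR
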