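import Groth.Agent.L12.PushFree.KPush
import Groth.Agent.L12.Kvb.Rank
import Groth.Agent.L17.ProjFormula

/-!
# `K(ℙⁿ_Y)` is generated by `K(Y)` and the twists
-/

set_option autoImplicit false
set_option linter.style.haveILetI false
set_option linter.unusedSectionVars false
set_option backward.isDefEq.respectTransparency false
set_option backward.isDefEq.respectTransparency.types false

universe v u

open CategoryTheory CategoryTheory.Limits AlgebraicGeometry

attribute [local instance] HasDerivedCategory.standard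

noncomputable section

namespace Groth.L12.KRR

open Groth.L22.Reg Groth.L12.KReg
open Groth.L00.Tensor (tensorIso tensorComm tensorUnitLeft tensorUnitRight)

variable {n : ℕ} {Y : Scheme.{u}}

theorem vpush_zero_iff {X : Scheme.{u}} (f : X ⟶ Y) {M : X.Modules} :
    VPush f 0 M ↔ IsZero ((Scheme.Modules.pushforward f).obj M) := by
  haveI : PreservesFiniteLimits (Coh.pushAb f) :=
    inferInstanceAs (PreservesFiniteLimits (TopCat.Sheaf.pushforward AddCommGrpCat.{u} f.base))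
  let e := (Coh.pushAb f).rightDerivedZeroIsoSelf.app (Coh.toAb M)
  refine ⟨fun h => Groth.L17.PushQCoh.isZero_of_toAb ?_, fun h => ?_⟩
  · exact (IsZero.of_iso h e.symm : IsZero ((Coh.pushAb f).obj (Coh.toAb M)))
  · exact IsZero.of_iso ((Groth.L17.toAbShF Y).map_isZero h) e

theorem vpush_succ_left {X : Scheme.{u}} (f : X ⟶ Y) {S : ShortComplex X.Modules} (hS : S.ShortExact) (q : ℕ)
    (h₂ : VPush f (q + 1) S.X₂) (h₃ : VPush f q S.X₃) : VPush f (q + 1) S.X₁ :=
  vpush_left f hS q h₂ ⟨fun {_} u v _ => h₃.eq_of_src u v⟩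

variable (n Y) in
/-- The counit sequence. -/
def cSC (F : (KRR.PY n Y).Modules) : ShortComplex (KRR.PY n Y).Modules :=
  ShortComplex.mk (kernel.ι ((Scheme.Modules.pullbackPushforwardAdjunction (KRR.pr n Y)).counit.app F))
    ((Scheme.Modules.pullbackPushforwardAdjunction (KRR.pr n Y)).counit.app F) (kernel.condition _)

/-- The next regular sheaf. -/
def next (F : (KRR.PY n Y).Modules) : (KRR.PY n Y).Modules := KRR.twF n Y 1 (cSC n Y F).X₁

variable [IsNoetherian Y]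

theorem shortExact_cSC {F : (KRR.PY n Y).Modules} (hF : RegP n Y F) : (cSC n Y F).ShortExact := by
  haveI : Coh.IsQCoh F := (Groth.L16.NegPow.isCoh_of_isFinLocFree hF.1).1
  exact { exact := ShortComplex.exact_kernel _, mono_f := inferInstanceAs (Mono (kernel.ι _)),
          epi_g := epi_counit hF.2 }

theorem vb_X₁ {F : (KRR.PY n Y).Modules} (hF : RegP n Y F) : FlatMod.IsFinLocFree (cSC n Y F).X₁ := by
  haveI := (shortExact_cSC hF).epi_g
  exact Groth.L29.DC.isFinLocFree_kernel_of_epi (cSC n Y F).g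
    (Groth.L29.LocFree.pullback _ (Groth.L12.PushFree.isFinLocFree_push_regular n Y hF.1 hF.2)) hF.1

theorem regP_next {F : (KRR.PY n Y).Modules} (hF : RegP n Y F) : RegP n Y (next F) :=
  ⟨isFinLocFree_tw _ (vb_X₁ hF), regular_kernel_counit (Groth.L16.NegPow.isCoh_of_isFinLocFree hF.1) hF.2⟩

/-- The direct image of the pullback of a bundle. -/
theorem nonempty_push_pull {M : Y.Modules} (hM : FlatMod.IsFinLocFree M) :
    Nonempty ((Scheme.Modules.pushforward (KRR.pr n Y)).obj ((Scheme.Modules.pullback (KRR.pr n Y)).obj M) ≅ M) := by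
  haveI := Groth.L17.PushQCoh.hasInjectiveResolutions (KRR.PY n Y)
  haveI := Groth.L17.PushQCoh.additive_push (KRR.pr n Y)
  obtain ⟨π⟩ := Groth.L17.ProjFormula.nonempty_Rpush_iso (KRR.pr n Y) M (Coh.structureModule (KRR.PY n Y)) hM 0
  obtain ⟨w⟩ := Groth.L12.PushFree.nonempty_push_structure_iso n Y
  let z := (Scheme.Modules.pushforward (KRR.pr n Y)).rightDerivedZeroIsoSelf
  exact ⟨(Scheme.Modules.pushforward (KRR.pr n Y)).mapIso (tensorUnitRight _).symm ≪≫ (z.app _).symm ≪≫ π.symm ≪≫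
    tensorIso (Iso.refl M) (z.app _ ≪≫ w.symm) ≪≫ tensorUnitRight M⟩

theorem isZero_push_X₁ [ConnectedSpace Y] {F : (KRR.PY n Y).Modules} (hF : RegP n Y F) :
    IsZero ((Scheme.Modules.pushforward (KRR.pr n Y)).obj (cSC n Y F).X₁) := by
  haveI := Groth.L17.PushQCoh.additive_push (KRR.pr n Y)
  have h1 : VPush (KRR.pr n Y) 1 (cSC n Y F).X₁ := by
    have h := isRegSheaf_iff.1 (regP_next hF).2 1 le_rfl
    exact vt_zero_iff.1 ((vt_twF (show (1 : ℤ) + -((1 : ℕ) : ℤ) = 0 by norm_num)).1 h)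
  have hS := shortExact_push (KRR.pr n Y) (shortExact_cSC hF) h1
  have hT := Groth.L12.PushFree.isFinLocFree_push_regular n Y hF.1 hF.2
  obtain ⟨w⟩ := nonempty_push_pull (n := n) hT
  have h₂ : FlatMod.IsFinLocFree ((Scheme.Modules.pushforward (KRR.pr n Y)).obj (cSC n Y F).X₂) :=
    Groth.L29.LocFree.of_iso w.symm hT
  have h₁ : FlatMod.IsFinLocFree ((Scheme.Modules.pushforward (KRR.pr n Y)).obj (cSC n Y F).X₁) := by
    haveI : Epi ((cSC n Y F).map (Scheme.Modules.pushforward (KRR.pr n Y))).g := hS.epi_g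
    exact Groth.L29.LocFree.of_iso ((kernelIsKernel _).conePointUniqueUpToIso hS.fIsKernel)
      (Groth.L29.DC.isFinLocFree_kernel_of_epi ((cSC n Y F).map (Scheme.Modules.pushforward (KRR.pr n Y))).g h₂ hT)
  obtain ⟨k, hk⟩ := Groth.L18.KRRAmple.exists_rank h₁
  obtain ⟨t, ht⟩ := Groth.L18.KRRAmple.exists_rank hT
  obtain ⟨m, hm⟩ := Groth.L18.KRRAmple.exists_rank h₂
  have e1 := Groth.L12.Kvb.rk_shortExact _ hS h₁ h₂ hT
  have e2 : Groth.L12.Kvb.rkHom (Groth.L12.Kvb.toKR Y (KRR.cl Y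
      ((Scheme.Modules.pushforward (KRR.pr n Y)).obj (cSC n Y F).X₂))) = (t : ℤ) := by
    rw [show KRR.cl Y ((Scheme.Modules.pushforward (KRR.pr n Y)).obj (cSC n Y F).X₂) = _ from
      Groth.L12.PushFree.cl_iso w h₂]
    exact Groth.L12.Kvb.rkHom_cl ht
  rw [Groth.L12.Kvb.rkHom_cl hm] at e2
  have e3 : (m : ℤ) = k + t := by
    rw [← Groth.L12.Kvb.rk_eq hm, ← Groth.L12.Kvb.rk_eq hk, ← Groth.L12.Kvb.rk_eq ht]
    exact e1
  obtain rfl : k = 0 := by omega
  exact Groth.L12.Kvb.isZero_of_rank_zero hk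

/-- The vanishing carried along the resolution. -/
def Van (j : ℕ) (F : (KRR.PY n Y).Modules) : Prop :=
  RegP n Y F ∧ ∀ q a : ℕ, 1 ≤ a → a ≤ j → a ≤ q + 1 → VT q (-(a : ℤ)) F

theorem Van.next [ConnectedSpace Y] {j : ℕ} (hj : j ≤ n) {F : (KRR.PY n Y).Modules} (h : Van j F) :
    Van (j + 1) (KRR.next F) := by
  refine ⟨regP_next h.1, fun q a ha haj haq => ?_⟩
  obtain ⟨a, rfl⟩ : ∃ a', a = a' + 1 := ⟨a - 1, by omega⟩
  refine (vt_twF (show (1 : ℤ) + -((a + 1 : ℕ) : ℤ) = -(a : ℤ) by omega)).2 ?_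
  rcases Nat.eq_zero_or_pos q with rfl | hq
  · obtain rfl : a = 0 := by omega
    rw [Nat.cast_zero, neg_zero, vt_zero_iff, vpush_zero_iff]
    exact isZero_push_X₁ h.1
  obtain ⟨q, rfl⟩ : ∃ q', q = q' + 1 := ⟨q - 1, by omega⟩
  rcases Nat.eq_zero_or_pos a with rfl | ha'
  · have h' := vt_propagate (isRegSheaf_iff.1 (regP_next h.1).2) q (q + 1) (by omega)
    exact (vt_twF (show (1 : ℤ) + (-((q + 1 : ℕ) : ℤ) + q) = -((0 : ℕ) : ℤ) by omega)).1 h'
  · exact vpush_succ_left (KRR.pr n Y) (shortExact_twistT (shortExact_cSC h.1) (-(a : ℤ))) q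
      (vt_pullback (Groth.L16.NegPow.isCoh_of_isFinLocFree
        (Groth.L12.PushFree.isFinLocFree_push_regular n Y h.1.1 h.1.2)) (by omega) (by omega))
      (h.2 q a ha' (by omega) (by omega))

theorem isZero_of_van {F : (KRR.PY n Y).Modules} (h : Van (n + 1) F) : IsZero F := by
  let G := KRR.twF n Y (-1) F
  have hG : FlatMod.IsFinLocFree G := isFinLocFree_tw _ h.1.1
  have hreg : KRR.IsRegSheaf n Y G := isRegSheaf_iff.2 fun i hi =>
    (vt_twF (show (-1 : ℤ) + -(i : ℤ) = -((i + 1 : ℕ) : ℤ) by omega)).2 <| by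
      rcases Nat.lt_or_ge n i with hni | hni
      · exact vt_of_lt h.1.1 hni _
      · exact h.2 i (i + 1) (by omega) (by omega) le_rfl
  have hp : IsZero ((Scheme.Modules.pushforward (KRR.pr n Y)).obj G) := vpush_zero_iff _ |>.1 <| vt_zero_iff.1 <|
    (vt_twF (show (-1 : ℤ) + 0 = -((1 : ℕ) : ℤ) by norm_num)).2 (h.2 0 1 le_rfl (by omega) (by omega))
  haveI : Coh.IsQCoh G := (Groth.L16.NegPow.isCoh_of_isFinLocFree hG).1
  haveI := epi_counit hreg
  haveI : (Scheme.Modules.pullback (KRR.pr n Y)).IsLeftAdjoint :=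
    (Scheme.Modules.pullbackPushforwardAdjunction _).isLeftAdjoint
  have hz : IsZero G := IsZero.of_epi ((Scheme.Modules.pullbackPushforwardAdjunction (KRR.pr n Y)).counit.app G)
    ((Scheme.Modules.pullback (KRR.pr n Y)).map_isZero hp)
  obtain ⟨e⟩ := nonempty_tw_tensor (n := n) (Y := Y) F (a := 0) (c := -1) 1 (by norm_num)
  obtain ⟨e1⟩ := nonempty_tw_zero F
  obtain ⟨u⟩ := nonempty_OT_add n Y (show (-1 : ℤ) + 1 = 0 by norm_num)
  obtain ⟨z⟩ := nonempty_OT_zero n Y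
  obtain ⟨g⟩ := nonempty_twF_iso n Y (-1) F
  refine ((Groth.L00.Tensor.tensorRightF (Twist.twistOver n Y 1)).map_isZero hz).of_iso
    (Iso.symm ?_ : F ≅ CohB1.tensorMod G (Twist.twistOver n Y 1))
  exact tensorIso (g ≪≫ tensorComm _ _) (Iso.refl _) ≪≫ Groth.L00.Tensor.tensorAssoc _ _ _ ≪≫
    tensorIso (Iso.refl F) (u ≪≫ z) ≪≫ tensorUnitRight F

variable {KP : Type v} [CommRing KP] [LambdaRing.LambdaOps KP] {PP : LambdaRing.PosStructure KP}
  {φP : SGA6.Kvb (KRR.PY n Y) →+ KP} (hKP : KRR.IsModel (KRR.PY n Y) KP PP φP)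
  {KY : Type v} [CommRing KY] {φY : SGA6.Kvb Y →+ KY} {q : KY →+ KP}
  (hq : KRR.IsPull (KRR.pr n Y) φY φP q)

include hKP in
theorem cl_twF (d : ℤ) {F : (KRR.PY n Y).Modules} (hF : FlatMod.IsFinLocFree F) :
    φP (KRR.cl _ (KRR.twF n Y d F)) = φP (KRR.cl _ (Twist.twistOver n Y d)) * φP (KRR.cl _ F) :=
  (hKP.map_mul _ _ (isFinLocFree_O d) hF).symm

include hKP in
theorem cl_O_add (a b : ℤ) :
    φP (KRR.cl _ (Twist.twistOver n Y a)) * φP (KRR.cl _ (Twist.twistOver n Y b)) =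
      φP (KRR.cl _ (Twist.twistOver n Y (a + b))) := by
  obtain ⟨e⟩ := nonempty_OT_add n Y (rfl : a + b = a + b)
  rw [← Groth.L12.PushFree.cl_iso e (Groth.L29.DC.isFinLocFree_tensor (isFinLocFree_O a) (isFinLocFree_O b))]
  exact hKP.map_mul _ _ (isFinLocFree_O a) (isFinLocFree_O b)

include hKP in
theorem cl_O_zero : φP (KRR.cl _ (Twist.twistOver n Y (0 : ℤ))) = 1 := by
  obtain ⟨e⟩ := nonempty_OT_zero n Y
  rw [Groth.L12.PushFree.cl_iso e (isFinLocFree_O 0)]
  exact hKP.map_one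

include hKP hq in
theorem cl_next {F : (KRR.PY n Y).Modules} (hF : RegP n Y F) :
    φP (KRR.cl _ F) = q (φY (KRR.cl Y ((Scheme.Modules.pushforward (KRR.pr n Y)).obj F))) -
      φP (KRR.cl _ (Twist.twistOver n Y (-1))) * φP (KRR.cl _ (next F)) := by
  have hT := Groth.L12.PushFree.isFinLocFree_push_regular n Y hF.1 hF.2
  have h := congrArg φP (Groth.L29.KSub.clSub_shortExact (KRR.vbP _) (shortExact_cSC hF) (vb_X₁ hF)
    (Groth.L29.LocFree.pullback _ hT) hF.1)
  rw [map_add] at h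
  rw [hq _ hT, next, cl_twF hKP 1 (vb_X₁ hF), ← mul_assoc, cl_O_add hKP, show (-1 : ℤ) + 1 = 0 by norm_num,
    cl_O_zero hKP, one_mul]
  exact eq_sub_of_add_eq ((add_comm _ _).trans h.symm)

include hKP hq in
theorem mem_closure_of_van [ConnectedSpace Y] : ∀ (k j : ℕ), j + k = n + 1 → ∀ {F : (KRR.PY n Y).Modules},
    Van j F → φP (KRR.cl _ F) ∈ AddSubgroup.closure
      {z | ∃ (y : KY) (i : ℕ), z = q y * φP (KRR.cl _ (Twist.twistOver n Y (-1))) ^ i}
  | 0, j, hj, F, h => by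
    obtain rfl : j = n + 1 := by omega
    have h0 : KRR.cl (KRR.PY n Y) F = 0 :=
      Groth.L29.KSub.clSub_zero (KRR.vbP _) (isZero_of_van h) (Groth.L29.LocFree.of_isZero (isZero_of_van h))
    rw [h0, map_zero]
    exact zero_mem _
  | k + 1, j, hj, F, h => by
    rw [cl_next hKP hq h.1]
    refine sub_mem (AddSubgroup.subset_closure ⟨_, 0, (by rw [pow_zero, mul_one])⟩) ?_
    have ih := mem_closure_of_van k (j + 1) (by omega) (h.next (by omega))
    set lm := φP (KRR.cl _ (Twist.twistOver n Y (-1)))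
    refine (AddSubgroup.closure_le (K := (AddSubgroup.closure _).comap (AddMonoidHom.mulLeft lm))).2 ?_ ih
    rintro z ⟨y, i, rfl⟩
    exact AddSubgroup.subset_closure ⟨y, i + 1, show lm * (q y * lm ^ i) = q y * lm ^ (i + 1) by ring⟩

include hKP hq in
/-- `K(ℙⁿ_Y)` is spanned by the `p^*(y)·[O(-1)]^i`. -/
theorem mem_closure_twists [ConnectedSpace Y] (x : KP) : x ∈ AddSubgroup.closure
    {z | ∃ (y : KY) (i : ℕ), z = q y * φP (KRR.cl _ (Twist.twistOver n Y (-1))) ^ i} := by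
  set M := AddSubgroup.closure
    {z | ∃ (y : KY) (i : ℕ), z = q y * φP (KRR.cl _ (Twist.twistOver n Y (-1))) ^ i}
  obtain ⟨z, rfl⟩ := hKP.bijective.2 x
  have h : (QuotientAddGroup.mk' M).comp φP = 0 := Groth.L12.KReg.hom_ext_regular n Y fun F hF hreg =>
    (QuotientAddGroup.eq_zero_iff _).2 (mem_closure_of_van hKP hq (n + 1) 0 (zero_add _)
      ⟨⟨hF, hreg⟩, fun q a h1 h2 => absurd h2 (by omega)⟩)
  exact (QuotientAddGroup.eq_zero_iff _).1 (DFunLike.congr_fun h z)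

end Groth.L12.KRR
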